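import Cfsg.Agent.H742.HT.Fus
import Cfsg.Agent.H742.HT.Lift
import Cfsg.Agent.H192.Ht.Free
import Cfsg.Agent.H530.HT.SmLie
import Cfsg.Agent.H753.ResCard
import Cfsg.Agent.LieClassical.FieldTransfer

/-!
# S3512, quasisimple rows: the survivors `L2(7)`, `L2(17)`, `A6` (helper800)

* `num_frob` : a Frobenius group `r : p ^ k` in `L / Z(L)`, `r ∤ h`;
* `row_l27`, `row_l217`, `row_a6` : the candidates of `H391.HT.Small` for these groups do not occur.
-/

set_option autoImplicit false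

universe u w

namespace Cfsg.Agent.H800.HT

open Module Cfsg.Agent.H828.HT Cfsg.Agent.H742.HT Cfsg.Agent.H192.Ht Cfsg.Agent.H912.Bd

section gen

variable {p : ℕ} [Fact p.Prime] {K : Type w} [Field K] {V : Type u} [AddCommGroup V] [Module (ZMod p) V] [Finite V]
    [Module K V] {G L : Subgroup (V ≃ₗ[ZMod p] V)} {h : ℕ}

/-- **A Frobenius group `r : p ^ k` in `L / Z(L)`.** -/
theorem num_frob (H : QL p K V G L h) (h0 : 0 < h) {m i : ℕ} (hm : m * h = Nat.card G) (hi : i * m = Nat.card V - 1)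
    {r a k : ℕ} (hr : r.Prime) (hrp : r ≠ p) (hrZ : r.Coprime (Nat.card (Subgroup.center L)))
    (hpZ : p.Coprime (Nat.card (Subgroup.center L))) (hrh : ¬ r ∣ h) {z y : L ⧸ Subgroup.center L}
    (hz : z ^ r = 1) (hz1 : z ≠ 1) (hy : y ^ p ^ k = 1) (hyz : y * z * y⁻¹ = z ^ a)
    (he : orderOf (a : ZMod r) = p ^ k) :
    ∃ c, p ^ k * c = finrank K V ∧ i * (m % p) + 1 ≤ Nat.card K ^ c := by
  have hfr : Fact r.Prime := ⟨hr⟩
  obtain ⟨z', hz', rfl⟩ := Lift.lift_pow hrZ z hz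
  obtain ⟨y', hy', rfl⟩ := Lift.lift_pow (hpZ.pow_left k) y hy
  have hrel : y' * z' * y'⁻¹ = z' ^ a := Lift.lift_rel hrZ hz' hyz
  have hz1' : z' ≠ 1 := by
    rintro rfl
    exact hz1 rfl
  have hp0 : 0 < p ^ k := pow_pos (Fact.out : p.Prime).pos k
  obtain ⟨c, h1, h2, -⟩ := frob H hr hrp hz' hrel he hp0 hy' (fun v hv => by
    refine fpf_of_not_dvd H.half hrh (H.le z'.2) ?_ ?_ hv
    · exact congrArg Subtype.val hz'
    · intro h3
      exact hz1' (Subtype.ext h3))
  refine ⟨c, h1, ?_⟩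
  rw [← h2]
  exact Fus.fus_fx H.half h0 hm hi Fact.out (H.le y'.2) (k := k) (congrArg Subtype.val hy')

/-- `p` divides `|V|`, so `|K| = 2` forces `p = 2` -/
theorem p_dvd (H : QL p K V G L h) : p ∣ Nat.card V := by
  obtain ⟨v, hv⟩ := QN.exists_ne H
  have h1 : addOrderOf v = p := by
    refine addOrderOf_eq_prime ?_ hv
    rw [← Nat.cast_smul_eq_nsmul (ZMod p), ZMod.natCast_self, zero_smul]
  rw [← h1]
  exact addOrderOf_dvd_natCard v

theorem p_eq (H : QL p K V G L h) {r n : ℕ} (hr : r.Prime) (hV : Nat.card V = r ^ n) : p = r := by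
  have h1 := p_dvd H
  rw [hV] at h1
  exact (Nat.prime_dvd_prime_iff_eq Fact.out hr).1 ((Fact.out : p.Prime).dvd_of_dvd_pow h1)

theorem not_dvd_of {N m h r : ℕ} (hd : m * h ∣ N) (hr : ¬ m * r ∣ N) : ¬ r ∣ h := fun ⟨j, hj⟩ => hr (by
  refine Dvd.dvd.trans ?_ hd
  rw [hj, ← mul_assoc]
  exact dvd_mul_right _ _)

end gen

/-! ### The Frobenius subgroups of `PSL(2, 7)` and `PSL(2, 17)` -/

section psl

open Matrix

theorem mem_cen {q : ℕ} [Fact q.Prime] (A : SpecialLinearGroup (Fin 2) (ZMod q)) :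
    A ∈ Subgroup.center (SpecialLinearGroup (Fin 2) (ZMod q)) ↔ A 0 1 = 0 ∧ A 1 0 = 0 ∧ A 0 0 = A 1 1 := by
  rw [Matrix.SpecialLinearGroup.mem_center_iff]
  constructor
  · rintro ⟨r, -, h⟩
    refine ⟨?_, ?_, ?_⟩
    · have := congrFun (congrFun h 0) 1
      simpa using this.symm
    · have := congrFun (congrFun h 1) 0
      simpa using this.symm
    · have h0 := congrFun (congrFun h 0) 0
      have h1 := congrFun (congrFun h 1) 1
      simp at h0 h1
      rw [← h0, ← h1]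
  · rintro ⟨h1, h2, h3⟩
    refine ⟨A 0 0, ?_, ?_⟩
    · have hd := A.det_coe
      rw [det_fin_two] at hd
      rw [h1, ← h3] at hd
      simp only [Fintype.card_fin]
      rw [pow_two]
      linear_combination hd
    · ext i j
      fin_cases i <;> fin_cases j
      · simp
      · simpa using h1.symm
      · simpa using h2.symm
      · simpa using h3

theorem pr_eq_one {q : ℕ} [Fact q.Prime] (A : SpecialLinearGroup (Fin 2) (ZMod q)) :
    (QuotientGroup.mk A : ProjectiveSpecialLinearGroup (Fin 2) (ZMod q)) = 1 ↔ A 0 1 = 0 ∧ A 1 0 = 0 ∧ A 0 0 = A 1 1 := by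
  rw [← mem_cen]
  exact QuotientGroup.eq_one_iff A

/-- `PSL(2, q)`, `q` prime, contains `q : e` -/
structure FrobIn (T : Type*) [Group T] (r e a : ℕ) : Prop where
  ex : ∃ z y : T, z ^ r = 1 ∧ z ≠ 1 ∧ y ^ e = 1 ∧ y * z * y⁻¹ = z ^ a

theorem FrobIn.congr {T T' : Type*} [Group T] [Group T'] {r e a : ℕ} (f : T ≃* T') (h : FrobIn T r e a) :
    FrobIn T' r e a := by
  obtain ⟨z, y, h1, h2, h3, h4⟩ := h.ex
  refine ⟨f z, f y, by rw [← map_pow, h1, map_one], ?_, by rw [← map_pow, h3, map_one], ?_⟩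
  · intro h5
    exact h2 (f.injective (by rw [h5, map_one]))
  · rw [← map_inv, ← map_mul, ← map_mul, h4, map_pow]

theorem frobIn_of {q : ℕ} [Fact q.Prime] {r e a : ℕ} (z y : SpecialLinearGroup (Fin 2) (ZMod q))
    (h1 : z ^ r = 1) (h2 : z 0 1 ≠ 0) (h3 : (y ^ e) 0 1 = 0 ∧ (y ^ e) 1 0 = 0 ∧ (y ^ e) 0 0 = (y ^ e) 1 1)
    (h4 : y * z = z ^ a * y) : FrobIn (ProjectiveSpecialLinearGroup (Fin 2) (ZMod q)) r e a := by
  refine ⟨QuotientGroup.mk z, QuotientGroup.mk y, ?_, ?_, ?_, ?_⟩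
  · rw [← QuotientGroup.mk_pow, h1]; rfl
  · rw [Ne, pr_eq_one]; exact fun h => h2 h.1
  · rw [← QuotientGroup.mk_pow, pr_eq_one]; exact h3
  · rw [mul_inv_eq_iff_eq_mul, ← QuotientGroup.mk_pow, ← QuotientGroup.mk_mul, ← QuotientGroup.mk_mul, h4]

theorem frobIn_of_isL {q : ℕ} [hq : Fact q.Prime] {T : Type*} [Group T] (hT : IsL 2 q T) {r e a : ℕ}
    (h : FrobIn (ProjectiveSpecialLinearGroup (Fin 2) (ZMod q)) r e a) : FrobIn T r e a := by
  obtain ⟨F, _, _, hF, ⟨f⟩⟩ := hT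
  have g : ProjectiveSpecialLinearGroup (Fin 2) (ZMod q) ≃* ProjectiveSpecialLinearGroup (Fin 2) F :=
    LieClassical.FieldTransfer.pslCongr (FiniteField.ringEquivOfCardEq (K := ZMod q) (K' := F) (by rw [hF, ZMod.card]))
  exact (h.congr g).congr f.symm

instance fact7 : Fact (Nat.Prime 7) := ⟨by norm_num⟩
instance fact17 : Fact (Nat.Prime 17) := ⟨by norm_num⟩

theorem frob7 : FrobIn (ProjectiveSpecialLinearGroup (Fin 2) (ZMod 7)) 7 3 4 :=
  frobIn_of ⟨!![1, 1; 0, 1], by decide⟩ ⟨!![2, 0; 0, 4], by decide⟩ (by decide +kernel) (by decide +kernel)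
    (by decide +kernel) (by decide +kernel)

theorem frob17 : FrobIn (ProjectiveSpecialLinearGroup (Fin 2) (ZMod 17)) 17 8 9 :=
  frobIn_of ⟨!![1, 1; 0, 1], by decide⟩ ⟨!![3, 0; 0, 6], by decide⟩ (by decide +kernel) (by decide +kernel)
    (by decide +kernel) (by decide +kernel)

end psl

section rows

variable {p : ℕ} [Fact p.Prime] {K : Type w} [Field K] {V : Type u} [AddCommGroup V] [Module (ZMod p) V] [Finite V]
    [Module K V] {G L : Subgroup (V ≃ₗ[ZMod p] V)} {h : ℕ}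

/-- **`L2(7)`, `p = 3`** -/
theorem row_l27 (H : QL p K V G L h) (h0 : 0 < h) {m : ℕ} (hm : m * h = Nat.card G)
    (hT : IsL 2 7 (L ⧸ Subgroup.center L))
    (hmem : (finrank K V, Nat.card K, m) ∈ [(3, 9, 56), (4, 27, 1456), (6, 3, 56)]) : False := by
  have hV := QN.card_V H
  obtain rfl : p = 3 := by
    simp only [List.mem_cons, Prod.mk.injEq, List.not_mem_nil, or_false] at hmem
    rcases hmem with ⟨hn, hq, -⟩ | ⟨hn, hq, -⟩ | ⟨hn, hq, -⟩ <;> rw [hn, hq] at hV
    · exact p_eq H Nat.prime_three (n := 6) (by rw [hV]; norm_num)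
    · exact p_eq H Nat.prime_three (n := 12) (by rw [hV]; norm_num)
    · exact p_eq H Nat.prime_three (n := 6) hV
  have hG := QN.card_G_dvd H
  rw [H530.HT.aut_l2 (p := 7) (f := 1) (N := 336) hT (by norm_num) le_rfl (by norm_num) (by norm_num) (by norm_num),
    ← hm] at hG
  obtain ⟨z, y, hz, hz1, hy, hyz⟩ := (frobIn_of_isL hT frob7).ex
  have h4 : orderOf ((4 : ℕ) : ZMod 7) = 3 ^ 1 := by
    rw [pow_one]
    exact orderOf_eq_prime (by decide) (by decide)
  simp only [List.mem_cons, Prod.mk.injEq, List.not_mem_nil, or_false] at hmem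
  rcases hmem with ⟨hn, hq, rfl⟩ | ⟨hn, hq, rfl⟩ | ⟨hn, hq, rfl⟩ <;> rw [hn, hq] at hV <;> rw [hq] at hG
  · obtain ⟨c, h1, h2⟩ := num_frob H h0 hm (i := 13) (by rw [hV]; norm_num) (r := 7) (a := 4) (k := 1) (by norm_num) (by norm_num)
      (Lift.coprime_center H (by norm_num) (by rw [hn, hq]; norm_num))
      (Lift.coprime_center H (by norm_num) (by rw [hn, hq]; norm_num)) (not_dvd_of hG (by norm_num)) hz hz1 hy hyz h4
    rw [hn] at h1
    obtain rfl : c = 1 := by omega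
    rw [hq] at h2
    norm_num at h2
  · obtain ⟨c, h1, -⟩ := num_frob H h0 hm (i := 365) (by rw [hV]; norm_num) (r := 7) (a := 4) (k := 1) (by norm_num) (by norm_num)
      (Lift.coprime_center H (by norm_num) (by rw [hn, hq]; norm_num))
      (Lift.coprime_center H (by norm_num) (by rw [hn, hq]; norm_num)) (not_dvd_of hG (by norm_num)) hz hz1 hy hyz h4
    rw [hn] at h1
    omega
  · obtain ⟨c, h1, h2⟩ := num_frob H h0 hm (i := 13) (by rw [hV]; norm_num) (r := 7) (a := 4) (k := 1) (by norm_num) (by norm_num)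
      (Lift.coprime_center H (by norm_num) (by rw [hn, hq]; norm_num))
      (Lift.coprime_center H (by norm_num) (by rw [hn, hq]; norm_num)) (not_dvd_of hG (by norm_num)) hz hz1 hy hyz h4
    rw [hn] at h1
    obtain rfl : c = 2 := by omega
    rw [hq] at h2
    norm_num at h2

/-- **`L2(17)`** -/
theorem row_l217 (H : QL p K V G L h) (h0 : 0 < h) {m : ℕ} (hm : m * h = Nat.card G)
    (hT : IsL 2 17 (L ⧸ Subgroup.center L))
    (hmem : (finrank K V, Nat.card K, m) ∈ [(8, 2, 51)]) : False := by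
  have hV := QN.card_V H
  have hG := QN.card_G_dvd H
  rw [H530.HT.aut_l2 (p := 17) (f := 1) (N := 4896) hT (by norm_num) le_rfl (by norm_num) (by norm_num) (by norm_num),
    ← hm] at hG
  obtain ⟨z, y, hz, hz1, hy, hyz⟩ := (frobIn_of_isL hT frob17).ex
  simp only [List.mem_cons, Prod.mk.injEq, List.not_mem_nil, or_false] at hmem
  obtain ⟨hn, hq, rfl⟩ := hmem
  rw [hn, hq] at hV
  rw [hq] at hG
  obtain rfl : p = 2 := p_eq H Nat.prime_two hV
  have h9 : orderOf ((9 : ℕ) : ZMod 17) = 2 ^ 3 := by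
    have h1 : ((9 : ℕ) : ZMod 17) ^ 2 ^ (2 + 1) = 1 := by decide
    exact orderOf_eq_prime_pow (p := 2) (n := 2) (by decide) h1
  obtain ⟨c, h1, h2⟩ := num_frob H h0 hm (i := 5) (by rw [hV]; norm_num) (r := 17) (a := 9) (k := 3) (by norm_num) (by norm_num)
    (Lift.coprime_center H (by norm_num) (by rw [hn, hq]; norm_num))
    (Lift.coprime_center H (by norm_num) (by rw [hn, hq]; norm_num)) (not_dvd_of hG (by norm_num)) hz hz1 hy hyz h9
  rw [hn] at h1
  obtain rfl : c = 1 := by omega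
  rw [hq] at h2
  norm_num at h2

/-- **`A6`, `p = 2`** -/
theorem row_a6 (H : QL p K V G L h) {m : ℕ} (hm : m * h = Nat.card G)
    (hT : Nonempty ((L ⧸ Subgroup.center L) ≃* alternatingGroup (Fin 6)))
    (hmem : (finrank K V, Nat.card K, m) ∈ [(4, 8, 315)]) : False := by
  have hV := QN.card_V H
  obtain ⟨e⟩ := hT
  have hG := QN.card_G_dvd H
  rw [← hm] at hG
  have hG' := hG.trans (Nat.mul_dvd_mul_left _ ((Nat.card_congr (MulAut.congr e).toEquiv).dvd.trans
    H753.ResCard.card_mulAut_A6))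
  simp only [List.mem_cons, Prod.mk.injEq, List.not_mem_nil, or_false] at hmem
  obtain ⟨hn, hq, rfl⟩ := hmem
  rw [hq] at hG'
  rw [hn, hq] at hV
  obtain rfl : p = 2 := p_eq H Nat.prime_two (n := 12) (by rw [hV]; norm_num)
  have hZ : (3 : ℕ).Coprime (Nat.card (Subgroup.center L)) :=
    Lift.coprime_center H (by norm_num) (by rw [hn, hq]; norm_num)
  refine not_dvd_of hG' (r := 3) (by norm_num) ?_
  let a : alternatingGroup (Fin 6) := ⟨c[0, 1, 2], Equiv.Perm.mem_alternatingGroup.2 (by decide +kernel)⟩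
  let b : alternatingGroup (Fin 6) := ⟨c[3, 4, 5], Equiv.Perm.mem_alternatingGroup.2 (by decide +kernel)⟩
  have ha : a ^ 3 = 1 := by decide +kernel
  have hb : b ^ 3 = 1 := by decide +kernel
  have hab : a * b = b * a := by decide +kernel
  obtain ⟨x, hx, hxa⟩ := Lift.lift_pow hZ (e.symm a) (by rw [← map_pow, ha, map_one])
  obtain ⟨y, hy, hyb⟩ := Lift.lift_pow hZ (e.symm b) (by rw [← map_pow, hb, map_one])
  have hxy : x * y = y * x := Lift.lift_comm hZ hy (by rw [hxa, hyb, ← map_mul, hab, map_mul])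
  refine Fus.rank_two' H.half (QN.exists_ne H) Nat.prime_three (by norm_num) (H.le x.2) (H.le y.2)
    (congrArg Subtype.val hxy) (congrArg Subtype.val hx) (congrArg Subtype.val hy) ?_ ?_
  · intro h1
    have h2 : x = 1 := Subtype.ext h1
    rw [h2] at hxa
    have h3 : a = 1 := by
      have := congrArg e hxa
      rw [MulEquiv.apply_symm_apply] at this
      rw [← this]
      exact map_one e
    revert h3
    decide +kernel
  · intro h1
    obtain ⟨j, hj⟩ := Subgroup.mem_zpowers_iff.1 h1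
    have h2 : x ^ j = y := Subtype.ext (by rw [← hj]; rfl)
    have h3 : a ^ j = b := by
      have h4 := congrArg e hyb
      rw [MulEquiv.apply_symm_apply, ← h2, QuotientGroup.mk_zpow, hxa, map_zpow, MulEquiv.apply_symm_apply] at h4
      exact h4
    have h5 : a ^ j = 1 ∨ a ^ j = a ∨ a ^ j = a ^ 2 := by
      have h6 := zpow_mod_orderOf a j
      have h7 : orderOf a = 3 := orderOf_eq_prime ha (by decide +kernel)
      rw [h7] at h6
      have h8 : j % 3 = 0 ∨ j % 3 = 1 ∨ j % 3 = 2 := by omega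
      push_cast at h6
      rcases h8 with h8 | h8 | h8 <;> rw [h8] at h6
      · left; rw [← h6]; exact zpow_zero a
      · right; left; rw [← h6]; exact zpow_one a
      · right; right; rw [← h6]; rfl
    rw [h3] at h5
    revert h5
    decide +kernel

end rows

/-! ### The form `H391.HT.Kill` -/

theorem kill_l27 : ∀ (p : ℕ) [Fact p.Prime] (V : Type u) [AddCommGroup V] [Module (ZMod p) V] [Finite V] (K : Type u)
    [Field K] [Module K V] (G L : Subgroup (V ≃ₗ[ZMod p] V)) (h m : ℕ), H19.HT.QSP p K V G L h → p ∣ Nat.card L →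
    ¬ H19.HT.Tra G → IsL 2 7 (L ⧸ Subgroup.center L) → m * h = Nat.card G →
    (Module.finrank K V, Nat.card K, m) ∈ [(3, 9, 56), (4, 27, 1456), (6, 3, 56)] → False :=
  fun _ _ _ _ _ _ _ _ _ _ _ _ _ H _ _ hT hm hmem => row_l27 (toQL H) (by have := H.two_le; omega) hm hT hmem

theorem kill_l217 : ∀ (p : ℕ) [Fact p.Prime] (V : Type u) [AddCommGroup V] [Module (ZMod p) V] [Finite V] (K : Type u)
    [Field K] [Module K V] (G L : Subgroup (V ≃ₗ[ZMod p] V)) (h m : ℕ), H19.HT.QSP p K V G L h → p ∣ Nat.card L →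
    ¬ H19.HT.Tra G → IsL 2 17 (L ⧸ Subgroup.center L) → m * h = Nat.card G →
    (Module.finrank K V, Nat.card K, m) ∈ [(8, 2, 51)] → False :=
  fun _ _ _ _ _ _ _ _ _ _ _ _ _ H _ _ hT hm hmem => row_l217 (toQL H) (by have := H.two_le; omega) hm hT hmem

theorem kill_a6 : ∀ (p : ℕ) [Fact p.Prime] (V : Type u) [AddCommGroup V] [Module (ZMod p) V] [Finite V] (K : Type u)
    [Field K] [Module K V] (G L : Subgroup (V ≃ₗ[ZMod p] V)) (h m : ℕ), H19.HT.QSP p K V G L h → p ∣ Nat.card L →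
    ¬ H19.HT.Tra G → Nonempty (L ⧸ Subgroup.center L ≃* alternatingGroup (Fin 6)) → m * h = Nat.card G →
    (Module.finrank K V, Nat.card K, m) ∈ [(4, 8, 315)] → False :=
  fun _ _ _ _ _ _ _ _ _ _ _ _ _ H _ _ hT hm hmem => row_a6 (toQL H) hm hT hmem

end Cfsg.Agent.H800.HT
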